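import Groth.Agent.AvramovLib.Factor
import Groth.Agent.RegLoc6.Serre

/-!
# Cohen presentations of local maps of complete local rings
-/

set_option autoImplicit false
set_option linter.style.haveILetI false
set_option maxHeartbeats 800000

universe u

open IsLocalRing Groth.Agent.AvramovLib

namespace Groth.Agent.CohenPres

/-- Complete local rings with a local map between them are the targets of compatible surjections from
regular complete local rings, flat with regular closed fibre over each other. -/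
theorem exists_presentation {A B : Type u} [CommRing A] [CommRing B] [IsLocalRing A] [IsLocalRing B]
    [IsAdicComplete (maximalIdeal A) A] [IsAdicComplete (maximalIdeal B) B]
    (hA : (maximalIdeal A).FG) (hB : (maximalIdeal B).FG) (φ : A →+* B) [IsLocalHom φ] :
    ∃ (Λ Λ' : Type u) (_ : CommRing Λ) (_ : CommRing Λ') (_ : IsLocalRing Λ) (n m : ℕ)
      (ρ : MvPowerSeries (Fin n) Λ →+* A) (σ : MvPowerSeries (Fin m) Λ' →+* B)
      (τ : MvPowerSeries (Fin n) Λ →+* MvPowerSeries (Fin m) Λ'),
      ((CharZero (ResidueField A) ∧ IsField Λ ∧ IsField Λ') ∨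
        (¬ CharZero (ResidueField A) ∧ CAlg.IsCohenRing Λ ∧ CAlg.IsCohenRing Λ')) ∧
        Function.Surjective ρ ∧ Function.Surjective σ ∧ σ.comp τ = φ.comp ρ ∧
        τ.Flat ∧ IsRegularRing (MvPowerSeries (Fin m) Λ' ⧸
          (maximalIdeal (MvPowerSeries (Fin n) Λ)).map τ) := by
  classical
  obtain ⟨p, Λ, _, n, π, hΛ, hpA, hπm, -, hπ⟩ := exists_coeff_ps A hA
  obtain ⟨p', Λ', _, m, q₀, hΛ', hpB, hqm, hqspan, hq₀⟩ := exists_coeff_ps B hB
  have hpp : p = p' := by
    haveI := hpA
    haveI := hpB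
    haveI : CharP (ResidueField B) p := charP_of_injective_ringHom
      (RingHom.injective (ResidueField.map φ)) p
    exact CharP.eq (ResidueField B) ‹_› hpB
  subst hpp
  obtain ⟨_, hregR, hcR⟩ := CohenLib.isRegular_complete_mvPowerSeries hΛ.cohen n
  obtain ⟨_, hregG, hcG⟩ := CohenLib.isRegular_complete_mvPowerSeries hΛ'.cohen (n + m)
  haveI := hregR
  haveI := hregG
  haveI := hcR
  haveI := hcG
  let R := MvPowerSeries (Fin n) Λ
  let G := MvPowerSeries (Fin (n + m)) Λ'
  -- the surjection `G → B`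
  letI : Algebra Λ' B := (q₀.comp MvPowerSeries.C).toAlgebra
  obtain ⟨q, hq⟩ := PSLib.exists_algHom (R := Λ') (n := n + m) (maximalIdeal B)
    (Fin.append (fun _ : Fin n => 0) fun j => q₀ (MvPowerSeries.X j)) (fun i => by
      induction i using Fin.addCases <;> simp [hqm])
  have hqy : ∀ i : Fin n, q (MvPowerSeries.X (Fin.castAdd m i)) = 0 := fun i => by rw [hq]; simp
  have hqz : ∀ j : Fin m, q (MvPowerSeries.X (Fin.natAdd n j)) = q₀ (MvPowerSeries.X j) := fun j => by
    rw [hq]; simp
  have hqC : ∀ c, q (MvPowerSeries.C c) = q₀ (MvPowerSeries.C c) := fun c => q.commutes c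
  have hqmap : (PSLib.vars (n + m) Λ').map q.toRingHom = maximalIdeal B := by
    refine le_antisymm ?_ ?_
    · rw [PSLib.vars, Ideal.map_span, Ideal.span_le]
      rintro _ ⟨_, ⟨i, rfl⟩, rfl⟩
      show q (MvPowerSeries.X i) ∈ maximalIdeal B
      induction i using Fin.addCases with
      | left i => rw [hqy]; exact zero_mem _
      | right j => rw [hqz]; exact hqm j
    · rw [hqspan, Ideal.span_le]
      rintro _ ⟨j, rfl⟩
      show q₀ (MvPowerSeries.X j) ∈ _
      rw [← hqz]
      exact Ideal.mem_map_of_mem _ (Ideal.subset_span ⟨_, rfl⟩)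
  have hqs : Function.Surjective q.toRingHom :=
    PSLib.surjective_of_first_order q.toRingHom (I := PSLib.vars (n + m) Λ') (J := maximalIdeal B) hB
      (IsAdicComplete.le_jacobson_bot _) hqmap.le (le_sup_of_le_left hqmap.ge) fun b => by
        obtain ⟨g, rfl⟩ := hq₀ b
        refine ⟨MvPowerSeries.C (MvPowerSeries.constantCoeff g), ?_⟩
        show q₀ g - q (MvPowerSeries.C _) ∈ _
        rw [hqC, ← map_sub]
        have e : g - MvPowerSeries.C (MvPowerSeries.constantCoeff g) ∈ PSLib.vars m Λ' :=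
          PSLib.mem_vars_iff.2 (by simp)
        refine (Ideal.map_le_iff_le_comap.2 ?_ : (PSLib.vars m Λ').map q₀ ≤ _) (Ideal.mem_map_of_mem q₀ e)
        rw [PSLib.vars, Ideal.span_le]
        rintro _ ⟨j, rfl⟩
        exact hqm j
  -- lift the coefficient map
  have hresG : CharP (ResidueField G) p := by
    haveI := hpB
    haveI : IsLocalHom q.toRingHom := IsLocalHom.of_surjective _ hqs
    exact ((ResidueField.map q.toRingHom).charP_iff_charP p).2 hpB
  let eK := RingHom.quotientKerEquivOfSurjective hqs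
  obtain ⟨ψ, hψ⟩ := exists_lift (isCoeff_sqLift hΛ G hresG) (RingHom.ker q.toRingHom) (RingHom.ker_ne_top _)
    (eK.symm.toRingHom.comp ((φ.comp π).comp MvPowerSeries.C))
  have hqψ : ∀ c, q (ψ c) = φ (π (MvPowerSeries.C c)) := fun c => by
    have := congrArg eK (RingHom.congr_fun hψ c)
    simp only [RingHom.comp_apply, RingEquiv.toRingHom_eq_coe, RingEquiv.coe_toRingHom,
      RingEquiv.apply_symm_apply] at this
    exact (RingHom.quotientKerEquivOfSurjective_apply_mk hqs (ψ c)).symm.trans this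
  -- lifts of the variables
  let Z : Ideal G := Ideal.span (Set.range fun j : Fin m => MvPowerSeries.X (Fin.natAdd n j))
  have hZ : ∀ i, ∃ w ∈ Z, q w = φ (π (MvPowerSeries.X i)) := by
    intro i
    have hmem : φ (π (MvPowerSeries.X i)) ∈ Z.map q.toRingHom := by
      have : Z.map q.toRingHom = maximalIdeal B := by
        rw [hqspan, Ideal.map_span, ← Set.range_comp]
        exact congrArg (fun t => Ideal.span (Set.range t)) (funext fun j => hqz j)
      rw [this]
      exact map_nonunit φ _ (hπm i)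
    obtain ⟨w, hw, e⟩ := (Ideal.mem_map_iff_of_surjective _ hqs).1 hmem
    exact ⟨w, hw, e⟩
  choose w hwZ hwq using hZ
  have hvars : PSLib.vars (n + m) Λ' ≤ maximalIdeal G := by
    rw [maximalIdeal_ps hΛ' (n + m)]; exact le_sup_right
  have hZm : Z ≤ maximalIdeal G := le_trans (Ideal.span_mono (Set.range_subset_iff.2 fun j => (Set.mem_range_self _))) hvars
  letI : Algebra Λ G := ψ.toAlgebra
  obtain ⟨h, hh⟩ := PSLib.exists_algHom (R := Λ) (n := n) (maximalIdeal G)
    (fun i => MvPowerSeries.X (Fin.castAdd m i) + w i) (fun i =>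
      add_mem (hvars (Ideal.subset_span ⟨_, rfl⟩)) (hZm (hwZ i)))
  letI : Algebra R G := h.toRingHom.toAlgebra
  have hhm : (maximalIdeal R).map (algebraMap R G) ≤ maximalIdeal G := by
    rw [maximalIdeal_ps hΛ n, Ideal.map_sup, sup_le_iff]
    constructor
    · rw [Ideal.map_span, Set.image_singleton, map_natCast, Ideal.span_singleton_le_iff_mem,
        maximalIdeal_ps hΛ' (n + m)]
      exact Submodule.mem_sup_left (Ideal.mem_span_singleton_self _)
    · rw [PSLib.vars, Ideal.map_span, Ideal.span_le]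
      rintro _ ⟨_, ⟨i, rfl⟩, rfl⟩
      show h (MvPowerSeries.X i) ∈ maximalIdeal G
      rw [hh]
      exact add_mem (hvars (Ideal.subset_span ⟨_, rfl⟩)) (hZm (hwZ i))
  haveI : IsLocalHom (algebraMap R G) := ((local_hom_TFAE _).out 0 2).2 hhm
  -- the closed fibre
  have hsup : maximalIdeal G ≤ (maximalIdeal R).map (algebraMap R G) ⊔ Z := by
    rw [maximalIdeal_ps hΛ' (n + m), sup_le_iff]
    refine ⟨?_, ?_⟩
    · rw [Ideal.span_singleton_le_iff_mem, ← map_natCast (algebraMap R G)]
      refine Submodule.mem_sup_left (Ideal.mem_map_of_mem _ ?_)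
      rw [maximalIdeal_ps hΛ n]
      exact Submodule.mem_sup_left (Ideal.mem_span_singleton_self _)
    · rw [PSLib.vars, Ideal.span_le]
      rintro _ ⟨i, rfl⟩
      induction i using Fin.addCases with
      | left i =>
        have : MvPowerSeries.X (Fin.castAdd m i) = algebraMap R G (MvPowerSeries.X i) - w i := by
          show _ = h (MvPowerSeries.X i) - w i
          rw [hh, add_sub_cancel_right]
        rw [SetLike.mem_coe, this]
        refine sub_mem (Submodule.mem_sup_left (Ideal.mem_map_of_mem _ ?_)) (Submodule.mem_sup_right (hwZ i))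
        rw [maximalIdeal_ps hΛ n]
        exact Submodule.mem_sup_right (Ideal.subset_span ⟨i, rfl⟩)
      | right j => exact Submodule.mem_sup_right (Ideal.subset_span ⟨j, rfl⟩)
  let P := (maximalIdeal R).map (algebraMap R G)
  haveI : Nontrivial (G ⧸ P) := Ideal.Quotient.nontrivial_iff.2
    (ne_top_of_le_ne_top (maximalIdeal.isMaximal G).ne_top hhm)
  haveI : IsLocalRing (G ⧸ P) := IsLocalRing.of_surjective' (Ideal.Quotient.mk P) Ideal.Quotient.mk_surjective
  have hfin : (maximalIdeal (G ⧸ P)).spanFinrank ≤ m := by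
    rw [← map_maximalIdeal_of_surjective (Ideal.Quotient.mk P) Ideal.Quotient.mk_surjective]
    have : (maximalIdeal G).map (Ideal.Quotient.mk P) = Z.map (Ideal.Quotient.mk P) := by
      refine le_antisymm ((Ideal.map_mono hsup).trans ?_) (Ideal.map_mono hZm)
      rw [Ideal.map_sup, Ideal.map_quotient_self, bot_sup_eq]
    rw [this, Ideal.map_span]
    refine (Submodule.spanFinrank_span_le_ncard_of_finite ((Set.finite_range _).image _)).trans ?_
    refine (Set.ncard_image_le (Set.finite_range _)).trans ?_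
    rw [← Set.image_univ]
    exact (Set.ncard_image_le Set.finite_univ).trans (by simp)
  have hdim := FlatLoc6.ringKrullDim_le_add_fibre (A := R) (B := G)
  change _ ≤ _ + ringKrullDim (G ⧸ P) at hdim
  rw [ringKrullDim_ps hΛ n, ringKrullDim_ps hΛ' (n + m)] at hdim
  have hle : ringKrullDim (G ⧸ P) ≤ (m : WithBot ℕ∞) :=
    (ringKrullDim_le_spanFinrank_maximalIdeal _).trans (Nat.cast_le.2 hfin)
  obtain ⟨d, hd⟩ := WithBot.ne_bot_iff_exists.1 (show ringKrullDim (G ⧸ P) ≠ ⊥ from
    fun hb => (WithBot.bot_lt_coe (0 : ℕ∞)).not_ge (hb ▸ ringKrullDim_nonneg_of_nontrivial (R := G ⧸ P)))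
  have hdm : d = (m : ℕ∞) := by
    rw [← hd] at hdim hle
    have h1 : ((n + m + edim p : ℕ) : ℕ∞) ≤ ((n + edim p : ℕ) : ℕ∞) + d := WithBot.coe_le_coe.1 (by exact_mod_cast hdim)
    have h2 : d ≤ (m : ℕ∞) := WithBot.coe_le_coe.1 (by exact_mod_cast hle)
    obtain ⟨d', rfl⟩ := ENat.ne_top_iff_exists.1 (ne_top_of_le_ne_top (ENat.coe_ne_top m) h2)
    norm_cast at h1 h2 ⊢
    omega
  have hregP : IsRegularLocalRing (G ⧸ P) := IsRegularLocalRing.of_spanFinrank_maximalIdeal_le _ (by
    rw [← hd, hdm]; exact_mod_cast hfin)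
  haveI := isCM_of_regular G
  have hflat : Module.Flat R G := S2082.result (R := R) (S := G) (by
    show _ = _ + ringKrullDim (G ⧸ P)
    rw [ringKrullDim_ps hΛ n, ringKrullDim_ps hΛ' (n + m), ← hd, hdm]
    push_cast
    exact_mod_cast (by omega : n + m + edim p = n + edim p + m))
  haveI := hΛ.isLocalRing
  haveI := hregP
  refine ⟨Λ, Λ', inferInstance, inferInstance, inferInstance, n, n + m, π, q.toRingHom, h.toRingHom, ?_,
    hπ, hqs, ?_, hflat, RegLoc6.isRegularRing_of_isRegularLocalRing (G ⧸ P)⟩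
  · obtain ⟨hp, hF, -⟩ | ⟨hp, i₁, i₂, hc, hm⟩ := hΛ <;>
      obtain ⟨hp', hF', -⟩ | ⟨hp', j₁, j₂, hc', hm'⟩ := hΛ'
    · subst hp
      haveI := hpA
      exact .inl ⟨CharP.charP_to_charZero _, hF, hF'⟩
    · exact absurd hp hp'.ne_zero
    · exact absurd hp' hp.ne_zero
    · refine .inr ⟨fun h0 => hp.ne_zero ?_, ⟨i₁, i₂, hc, p, hp, hm⟩, ⟨j₁, j₂, hc', p, hp', hm'⟩⟩
      haveI := h0
      exact CharP.eq (ResidueField A) hpA (CharP.ofCharZero _)
  -- commutation
  letI : Algebra Λ B := ((φ.comp π).comp MvPowerSeries.C).toAlgebra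
  let f₁ : R →ₐ[Λ] B :=
    { q.toRingHom.comp h.toRingHom with
      commutes' := fun c => by
        show q (h (algebraMap Λ R c)) = _
        rw [h.commutes]
        exact hqψ c }
  let f₂ : R →ₐ[Λ] B := { φ.comp π with commutes' := fun c => rfl }
  have : f₁ = f₂ := by
    refine PSLib.algHom_ext (I := maximalIdeal B) f₁ f₂ (fun i => ?_) fun i => ?_
    · show q (h (MvPowerSeries.X i)) ∈ _
      rw [hh, map_add, hqy, zero_add, hwq]
      exact map_nonunit φ _ (hπm i)
    · show q (h (MvPowerSeries.X i)) = φ (π (MvPowerSeries.X i))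
      rw [hh, map_add, hqy, zero_add, hwq]
  exact RingHom.ext fun r => AlgHom.congr_fun this r

end Groth.Agent.CohenPres
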